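import Cfsg.Agent.H582.Ly.Seven

/-!
# Elements of order `11 r` of the Lyons group (helper582)

* `comm_of_odd` : `C_Y(t) = ⟨X⟩ × ⟨t⟩`, `X` central of odd order; the elements of odd order of `Y` commute modulo `⟨X⟩`;
* `eleven` : elements of orders 11 and `r ≥ 31` do not commute;
* `eleven_five` : elements of orders 11 and 5 do not commute.
-/

set_option autoImplicit false
set_option linter.unusedSectionVars false
set_option linter.unusedVariables false

namespace Cfsg.Agent.H582.Ly

open Subgroup Equiv Cfsg Cfsg.Agent.TypeM.Two Cfsg.Agent.SporRec.TwoAn Cfsg.Agent.CpAut.Cyc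

universe u v

/-- a group with an involution `t`, `C(t) = ⟨t⟩`: the elements of odd order commute -/
theorem comm_of_cent {Y : Type u} [Group Y] [Finite Y] {t : Y} (ht : orderOf t = 2)
    (hcent : ∀ g : Y, g * t = t * g → g = 1 ∨ g = t) {u v : Y} (hu : Odd (orderOf u)) (hv : Odd (orderOf v)) :
    u * v = v * u := by
  have ht2 : t * t = 1 := by rw [← pow_two, ← ht, pow_orderOf_eq_one]
  have ht1 : t ≠ 1 := by
    rintro rfl
    rw [orderOf_one] at ht
    norm_num at ht
  obtain ⟨N, hN, hodd, hsup⟩ := CpAut.TwoCov.exists_odd_sup ht fun s _ hs => hcent s hs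
  have htN : t ∉ N := by
    intro h
    have h1 : orderOf t ∣ Nat.card N := by
      rw [← Subgroup.orderOf_mk t h]
      exact orderOf_dvd_natCard _
    rw [ht] at h1
    exact (Nat.not_even_iff_odd.2 hodd) (even_iff_two_dvd.2 h1)
  -- the elements of odd order lie in `N`
  have hmem : ∀ u : Y, Odd (orderOf u) → u ∈ N := by
    intro u hu
    have h1 : u ∈ N ⊔ centralizer ({t} : Set Y) := by rw [hsup]; exact mem_top u
    rw [← SetLike.mem_coe, normal_mul] at h1
    obtain ⟨n, hn, c, hc, hnc⟩ := h1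
    have hnc' : n * c = u := hnc
    rcases hcent c (mem_centralizer_singleton_iff.1 hc) with h2 | h2
    · rw [← hnc', h2, mul_one]
      exact hn
    · exfalso
      apply htN
      rw [h2] at hnc'
      have e1 : (QuotientGroup.mk u : Y ⧸ N) = QuotientGroup.mk t := by
        rw [← hnc', QuotientGroup.mk_mul, (QuotientGroup.eq_one_iff n).2 hn, one_mul]
      have e2 : (QuotientGroup.mk t : Y ⧸ N) ^ orderOf u = 1 := by
        rw [← e1, ← QuotientGroup.mk_pow, pow_orderOf_eq_one]
        rfl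
      have e3 : (QuotientGroup.mk t : Y ⧸ N) ^ 2 = 1 := by
        rw [← QuotientGroup.mk_pow, pow_two, ht2]
        rfl
      obtain ⟨m, hm⟩ := hu
      rw [hm, pow_succ, pow_mul, e3, one_pow, one_mul] at e2
      exact (QuotientGroup.eq_one_iff t).1 e2
  -- the action of `t` on `N`
  let φ : N →* N := (MulAut.conjNormal t : MulAut N).toMonoidHom
  have hφ : ∀ n : N, ((φ n : N) : Y) = t * n * t⁻¹ := fun n => rfl
  have hti : t⁻¹ = t := inv_eq_of_mul_eq_one_left ht2
  have hfp : MonoidHom.FixedPointFree φ := by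
    intro n hn
    have h1 : t * (n : Y) * t⁻¹ = n := congrArg Subtype.val hn
    rcases hcent n (mul_inv_eq_iff_eq_mul.1 h1).symm with h2 | h2
    · exact Subtype.ext h2
    · exact absurd (h2 ▸ n.2) htN
  have hinv : Function.Involutive φ := by
    intro n
    apply Subtype.ext
    rw [hφ, hφ, hti]
    calc t * (t * (n : Y) * t) * t = (t * t) * n * (t * t) := by group
      _ = n := by rw [ht2]; group
  have h1 := hfp.commute_all_of_involutive hinv ⟨u, hmem u hu⟩ ⟨v, hmem v hv⟩
  exact congrArg Subtype.val h1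

/-- The elements of odd order commute modulo a central subgroup. -/
theorem comm_of_odd {Y : Type u} [Group Y] [Finite Y] {t X : Y} (ht : orderOf t = 2) (hX : ∀ y : Y, y * X = X * y)
    (hXo : Odd (orderOf X)) (hcent : ∀ g : Y, g * t = t * g → ∃ i : ℕ, g = X ^ i ∨ g = X ^ i * t) {u v : Y}
    (hu : Odd (orderOf u)) (hv : Odd (orderOf v)) (hux : (orderOf u).Coprime (orderOf X)) : u * v = v * u := by
  have ht2 : t * t = 1 := by rw [← pow_two, ← ht, pow_orderOf_eq_one]
  have hzX : ∀ (i : ℤ) (y : Y), y * X ^ i = X ^ i * y := fun i y => ((show Commute y X from hX y).zpow_right i).eq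
  have hNn : (zpowers X).Normal := by
    refine ⟨fun n hn g => ?_⟩
    obtain ⟨i, rfl⟩ := hn
    change g * X ^ i * g⁻¹ ∈ _
    rw [hzX, mul_inv_cancel_right]
    exact ⟨i, rfl⟩
  have hodd : ∀ i : ℤ, (X ^ i) ^ 2 = 1 → X ^ i = 1 := by
    intro i hi
    obtain ⟨m, hm⟩ := hXo
    have h1 : (X ^ i) ^ orderOf X = 1 := by
      rw [← zpow_natCast, ← zpow_mul, mul_comm, zpow_mul, zpow_natCast, pow_orderOf_eq_one, one_zpow]
    rw [hm, pow_succ, pow_mul, hi, one_pow, one_mul] at h1
    exact h1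
  set t' : Y ⧸ zpowers X := QuotientGroup.mk t with ht'
  have htX : t ∉ zpowers X := by
    rintro ⟨i, hi⟩
    have hi' : X ^ i = t := hi
    have h1 := hodd i (by rw [hi', pow_two, ht2])
    rw [hi'] at h1
    rw [h1, orderOf_one] at ht
    norm_num at ht
  have ho : orderOf t' = 2 := by
    have : Fact (Nat.Prime 2) := ⟨Nat.prime_two⟩
    apply orderOf_eq_prime
    · rw [ht', ← QuotientGroup.mk_pow, pow_two, ht2]
      rfl
    · intro h
      exact htX ((QuotientGroup.eq_one_iff t).1 h)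
  have hcent' : ∀ g : Y ⧸ zpowers X, g * t' = t' * g → g = 1 ∨ g = t' := by
    intro g hg
    obtain ⟨g, rfl⟩ := QuotientGroup.mk_surjective g
    have h1 : (g * t)⁻¹ * (t * g) ∈ zpowers X := QuotientGroup.eq.1 hg
    obtain ⟨i, hi⟩ := h1
    have hi' : t * g = g * t * X ^ i := by
      have hi2 : X ^ i = (g * t)⁻¹ * (t * g) := hi
      rw [hi2]
      group
    have h2 : X ^ i * X ^ i = 1 := by
      have e1 : t * (t * g) = g := by rw [← mul_assoc, ht2, one_mul]
      have e2 : t * (t * g) = g * (X ^ i * X ^ i) := by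
        calc t * (t * g) = t * (g * t * X ^ i) := congrArg (fun z => t * z) hi'
          _ = (t * g) * t * X ^ i := by group
          _ = (g * t * X ^ i) * t * X ^ i := congrArg (fun z => z * t * X ^ i) hi'
          _ = g * t * (X ^ i * t) * X ^ i := by group
          _ = g * t * (t * X ^ i) * X ^ i := by rw [hzX i t]
          _ = g * (t * t) * (X ^ i * X ^ i) := by group
          _ = _ := by rw [ht2, mul_one]
      rw [e1] at e2
      exact (mul_eq_left.1 e2.symm)
    have h3 := hodd i (by rw [pow_two, h2])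
    rw [h3, mul_one] at hi'
    obtain ⟨j, hj | hj⟩ := hcent g hi'.symm
    · left
      rw [QuotientGroup.eq_one_iff, hj]
      exact pow_mem (mem_zpowers X) j
    · right
      rw [hj, QuotientGroup.mk_mul, (QuotientGroup.eq_one_iff _).2 (pow_mem (mem_zpowers X) j), one_mul]
  have hmk : ∀ u : Y, Odd (orderOf u) → Odd (orderOf (QuotientGroup.mk u : Y ⧸ zpowers X)) := by
    intro u hu
    refine hu.of_dvd_nat (orderOf_dvd_of_pow_eq_one ?_)
    rw [← QuotientGroup.mk_pow, pow_orderOf_eq_one]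
    rfl
  have h1 := comm_of_cent ho hcent' (hmk u hu) (hmk v hv)
  have h2 : (v * u)⁻¹ * (u * v) ∈ zpowers X := QuotientGroup.eq.1 h1.symm
  obtain ⟨i, hi⟩ := h2
  have hi' : u * v = v * u * X ^ i := by
    have hi2 : X ^ i = (v * u)⁻¹ * (u * v) := hi
    rw [hi2]
    group
  have e1 : v⁻¹ * u * v = u * X ^ i := by
    calc v⁻¹ * u * v = v⁻¹ * (u * v) := by group
      _ = _ := by rw [hi']; group
  have e2 : (v⁻¹ * u * v) ^ orderOf u = 1 := by
    have h3 := conj_pow (i := orderOf u) (a := v⁻¹) (b := u)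
    rw [inv_inv] at h3
    rw [h3, pow_orderOf_eq_one]
    group
  have e3 : (X ^ i) ^ orderOf u = 1 := by
    rw [e1, (show Commute u (X ^ i) from hzX i u).mul_pow, pow_orderOf_eq_one, one_mul] at e2
    exact e2
  have e4 : (X ^ i) ^ orderOf X = 1 := by
    rw [← zpow_natCast, ← zpow_mul, mul_comm, zpow_mul, zpow_natCast, pow_orderOf_eq_one, one_zpow]
  have e5 : X ^ i = 1 := by
    have h3 := Nat.dvd_gcd (orderOf_dvd_of_pow_eq_one e3) (orderOf_dvd_of_pow_eq_one e4)
    rw [hux.gcd_eq_one, Nat.dvd_one, orderOf_eq_one_iff] at h3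
    exact h3
  rw [hi', e5, mul_one]

section main

variable {G : Type u} [Group G] [Finite G]

theorem elev_mem : finRotate 11 ∈ alternatingGroup (Fin 11) := by
  rw [Perm.mem_alternatingGroup, sign_finRotate]
  decide

/-- an element of order 11 whose centralizer has commuting elements of odd orders prime to 11 -/
theorem exists_elev (L : MT 11 G) : ∃ X : G, orderOf X = 11 ∧ ∀ u v : G, u * X = X * u → v * X = X * v → Odd (orderOf u) →
    Odd (orderOf v) → (orderOf u).Coprime 11 → u * v = v * u := by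
  obtain ⟨X, hXπ, hX11⟩ := L.K.exists_odd_lift elev_mem (n := 11) (by decide) (by
    have h1 : orderOf (finRotate 11) = 11 := by
      rw [isCycle_finRotate.orderOf, support_finRotate]
      rfl
    have h2 := pow_orderOf_eq_one (finRotate 11)
    rwa [h1] at h2)
  have hcyc : (L.K.π X).IsCycle := by rw [hXπ]; exact isCycle_finRotate
  have hsup : (L.K.π X).support = Finset.univ := by rw [hXπ]; exact support_finRotate
  have hX1 : X ≠ 1 := by
    rintro rfl
    rw [map_one, Perm.support_one] at hsup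
    have := congrArg Finset.card hsup
    rw [Finset.card_empty, Finset.card_univ, Fintype.card_fin] at this
    norm_num at this
  have hXo' : orderOf X = 11 := by
    have : Fact (Nat.Prime 11) := ⟨by norm_num⟩
    exact orderOf_eq_prime hX11 hX1
  have hXo : orderOf (X : G) = 11 := by rw [Subgroup.orderOf_coe, hXo']
  refine ⟨X, hXo, ?_⟩
  intro u v hu hv huo hvo huc
  set Y := centralizer ({(X : G)} : Set G) with hY
  have htX : L.t * (X : G) = X * L.t := (mem_centralizer_singleton_iff.1 X.2).symm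
  let t' : Y := ⟨L.t, mem_centralizer_singleton_iff.2 htX⟩
  have ht' : orderOf t' = 2 := by rw [← Subgroup.orderOf_coe]; exact L.orderOf_t
  let X' : Y := ⟨X, mem_centralizer_singleton_iff.2 rfl⟩
  have hX'o : orderOf X' = 11 := by rw [← Subgroup.orderOf_coe]; exact hXo
  have h1 := comm_of_odd (Y := Y) (t := t') (X := X') ht' (fun y => Subtype.ext (mem_centralizer_singleton_iff.1 y.2))
    (by rw [hX'o]; decide) ?_ (u := ⟨u, mem_centralizer_singleton_iff.2 hu⟩) (v := ⟨v, mem_centralizer_singleton_iff.2 hv⟩)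
    (by rw [Subgroup.orderOf_mk]; exact huo) (by rw [Subgroup.orderOf_mk]; exact hvo)
    (by rw [Subgroup.orderOf_mk, hX'o]; exact huc)
  · exact congrArg Subtype.val h1
  · intro g hg
    have hgt : (g : G) * L.t = L.t * g := congrArg Subtype.val hg
    have hgX : (g : G) * X = X * g := mem_centralizer_singleton_iff.1 g.2
    obtain ⟨i, d, hd, hgd⟩ := (cent_of_cycle L.K hcyc (⟨g, L.mem_iff.2 hgt⟩ : ↥(centralizer ({L.t} : Set G)))).1
      (Subtype.ext hgX)
    have hd1 : L.K.π d = 1 := by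
      ext x
      have hx : ¬ L.K.π X x = x := by
        rw [← Ne, ← Perm.mem_support, hsup]
        exact Finset.mem_univ x
      have h2 := hd x hx
      rw [h2]
      rfl
    have hgd' : (g : G) = X ^ i * (d : ↥(centralizer ({L.t} : Set G))) := congrArg Subtype.val hgd
    refine ⟨i, ?_⟩
    rcases (L.K.ker d).1 hd1 with h | h
    · left
      apply Subtype.ext
      rw [hgd', h]
      exact mul_one _
    · right
      apply Subtype.ext
      rw [hgd', h]
      show (X : G) ^ i * ((L.K.z : ↥(centralizer ({L.t} : Set G))) : G) = X ^ i * L.t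
      exact congrArg (fun z => (X : G) ^ i * z) L.hz

theorem conj_comm' {a b : G} (g : G) (h : a * b = b * a) :
    (g * a * g⁻¹) * (g * b * g⁻¹) = (g * b * g⁻¹) * (g * a * g⁻¹) := by
  calc (g * a * g⁻¹) * (g * b * g⁻¹) = g * (a * b) * g⁻¹ := by group
    _ = g * (b * a) * g⁻¹ := by rw [h]
    _ = _ := by group

theorem orderOf_conj'' (g a : G) : orderOf (g * a * g⁻¹) = orderOf a := MulEquiv.orderOf_eq (MulAut.conj g) a

/-- a conjugate of `x₀` in the centralizer of an element of order 11 -/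
theorem exists_elev_three (L : MT 11 G) (hcard : Nat.card G = 51765179004000000) {x₀ : G} (h₀ : TData x₀) {x y : G} {r : ℕ}
    (hr : r.Prime) (hr2 : r ≠ 2) (hr11 : r ≠ 11) (hx : orderOf x = 11) (hy : orderOf y = r) (hxy : x * y = y * x) :
    ∃ X y' g : G, orderOf X = 11 ∧ orderOf y' = r ∧ X * y' = y' * X ∧ y' * (g * x₀ * g⁻¹) = g * x₀ * g⁻¹ * y' := by
  have h11 : Nat.Prime 11 := by norm_num
  have hf11 : Fact (Nat.Prime 11) := ⟨h11⟩
  have hsq := sq_not_dvd hcard h11 (by norm_num)
  obtain ⟨X, hX, hcomm⟩ := exists_elev L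
  obtain ⟨x', hx'⟩ := exists_prime_orderOf_dvd_card' (G := centralizer ({x₀} : Set G)) 11 (by
    rw [h₀.mcl.card]
    norm_num)
  obtain ⟨w, g, hw, hXw, rfl⟩ := exists_comm h11 hsq hX (y := (x' : G)) (by rw [Subgroup.orderOf_coe, hx']) h₀.ord
    (mem_centralizer_singleton_iff.1 x'.2)
  obtain ⟨y', g', hy', hXy', -⟩ := exists_comm h11 hsq hX hx hy hxy
  refine ⟨X, y', g, hX, hy', hXy', ?_⟩
  refine hcomm y' _ hXy'.symm hXw.symm (by rw [hy']; exact hr.odd_of_ne_two hr2) (by rw [hw]; decide) ?_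
  rw [hy']
  exact (Nat.coprime_primes hr h11).2 hr11

theorem not_dvd_tmcl {r : ℕ} (hr : r.Prime) (hr13 : 13 ≤ r) : ¬ r ∣ 2694384000 := by
  intro h
  have e : (2694384000 : ℕ) = 2 ^ 7 * 3 ^ 7 * 5 ^ 3 * 7 * 11 := by norm_num
  rw [e] at h
  simp only [Nat.Prime.dvd_mul hr] at h
  rcases h with (((h | h) | h) | h) | h
  · have := Nat.le_of_dvd (by norm_num) (hr.dvd_of_dvd_pow h)
    omega
  · have := Nat.le_of_dvd (by norm_num) (hr.dvd_of_dvd_pow h)
    omega
  · have := Nat.le_of_dvd (by norm_num) (hr.dvd_of_dvd_pow h)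
    omega
  · have := Nat.le_of_dvd (by norm_num) h
    omega
  · have := Nat.le_of_dvd (by norm_num) h
    omega

/-- elements commuting with a conjugate of `x₀` -/
theorem TData.dvd {x₀ : G} (h₀ : TData x₀) {y : G} (hy : y * x₀ = x₀ * y) : orderOf y ∣ 2694384000 := by
  rw [← h₀.mcl.card, ← Subgroup.orderOf_mk y (mem_centralizer_singleton_iff.2 hy)]
  exact orderOf_dvd_natCard _

/-- **Elements of orders 11 and `r ≥ 13` do not commute.** -/
theorem eleven (L : MT 11 G) (hcard : Nat.card G = 51765179004000000) {x₀ : G} (h₀ : TData x₀) {r : ℕ} (hr : r.Prime)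
    (hr13 : 13 ≤ r) {x y : G} (hx : orderOf x = 11) (hy : orderOf y = r) : x * y ≠ y * x := by
  intro hxy
  obtain ⟨X, y', g, hX, hy', hXy', hyw⟩ := exists_elev_three L hcard h₀ hr (by omega) (by omega) hx hy hxy
  apply not_dvd_tmcl hr hr13
  rw [← hy']
  exact (h₀.conj g).dvd hyw

/-- an element of `S` of type `3`, with its fixed points on `K` -/
theorem exists_three_K (L : MT 11 G) {x₀ : G} (h₀ : TData x₀) : ∃ (t f y₁ : G) (K S : Subgroup G) (_ : Fv t f K S),
    (∃ g : G, g * y₁ * g⁻¹ = x₀) ∧ Nat.card (K ⊓ centralizer ({y₁} : Set G) : Subgroup G) = 5 ^ 3 := by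
  obtain ⟨f, hf⟩ := Cfsg.Agent.SporRec.LyFiveFinal.exists_five (toLy L)
  obtain ⟨⟨hE⟩, -⟩ := Cfsg.Agent.SporRec.LyFiveFinal.exists_lyFive hf
  obtain ⟨x, hx, hd⟩ := Cfsg.Agent.SporRec.LyA1.exists_three hf
  obtain ⟨e, he, hef, hex, -⟩ := Cfsg.Agent.SporRec.LyA1.exists_core_elem hx hf hd
  have hcyc := hx.cyc
  have hx1 : x ≠ 1 := by
    rintro rfl
    have h1 := hcyc.orderOf
    have h2 : (⟨1, (toLy L).mem_iff.2 hx.comm⟩ : ↥(centralizer ({(toLy L).t} : Set G))) = 1 := rfl
    rw [h2, map_one, orderOf_one] at h1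
    norm_num at h1
  have hx3 : orderOf x = 3 := orderOf_eq_prime hx.pow hx1
  have htx : L.t * x = x * L.t := hx.comm.symm
  refine ⟨_, f, x, _, _, fv_of_five hf, ?_, ?_⟩
  · obtain ⟨s₀, h1, h2, h3⟩ := h₀.nn
    have hct : (L.K.π (TypeM.McLFromLy.xc htx)).cycleType = {3} := hcyc
    have hnn : CpAutLy.Types.nn x L.t = 120960 := by
      rcases CpAutLy.Types.cases L hx3 htx with h | h | h
      · exact h.2
      · exfalso
        have h4 := congrArg Multiset.card (hct.symm.trans h.1)
        simp at h4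
      · exfalso
        have h4 := congrArg Multiset.card (hct.symm.trans h.1)
        simp at h4
    exact CpAutLy.Types.exists_conj_of_nn L hx3 L.orderOf_t htx hnn h₀.ord h1 h2 h3
  · refine hE.card_three x ?_ hx1 hx.pow ⟨e, he, hef, hex⟩
    rw [Cfsg.Agent.SporRec.LyFiveSix.mem_Sx]
    exact ⟨hx.comm, fun y hy => (hd y).resolve_left hy⟩

/-- elements of order 5 commuting with a conjugate of `x₀` are conjugate into `K` -/
theorem exists_conj_K (L : MT 11 G) {x₀ : G} (h₀ : TData x₀) : ∃ (t f : G) (K S : Subgroup G) (_ : Fv t f K S),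
    ∀ (c g : G), orderOf c = 5 → c * (g * x₀ * g⁻¹) = g * x₀ * g⁻¹ * c → ∃ m : G, m * c * m⁻¹ ∈ K := by
  obtain ⟨t, f, y₁, K, S, h, ⟨g₁, hg₁⟩, hK⟩ := exists_three_K L h₀
  refine ⟨t, f, K, S, h, ?_⟩
  intro c g hc hcg
  have h₁ : TData y₁ := by
    have h2 := h₀.conj g₁⁻¹
    rwa [← hg₁, show g₁⁻¹ * (g₁ * y₁ * g₁⁻¹) * g₁⁻¹⁻¹ = y₁ by group] at h2
  set k := (g * g₁)⁻¹ with hk
  have hkw : k * (g * x₀ * g⁻¹) * k⁻¹ = y₁ := by rw [hk, ← hg₁]; group
  have hcy : (k * c * k⁻¹) * y₁ = y₁ * (k * c * k⁻¹) := by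
    rw [← hkw]
    exact conj_comm' k hcg
  have hc' : k * c * k⁻¹ ∈ centralizer ({y₁} : Set G) := mem_centralizer_singleton_iff.2 hcy
  have hidx : ¬ 5 ∣ ((K ⊓ centralizer ({y₁} : Set G)).subgroupOf (centralizer ({y₁} : Set G))).index := by
    refine not_dvd_index (q := 5) (k := 3) (a := 21555072) (b := 1) (by rw [h₁.mcl.card]; norm_num) ?_ Nat.prime_five
      (by norm_num)
    rw [mul_one, ← hK]
    exact Nat.card_congr (Subgroup.subgroupOfEquivOfLe inf_le_right).toEquiv
  obtain ⟨m, hm⟩ := exists_conj_le Nat.prime_five (isPGroup_zpowers' Nat.prime_five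
    (x := (⟨k * c * k⁻¹, hc'⟩ : centralizer ({y₁} : Set G))) (by rw [Subgroup.orderOf_mk, orderOf_conj'', hc])) hidx
  have h2 := hm _ (mem_zpowers _)
  refine ⟨(m : G) * k, ?_⟩
  have h3 : (m : G) * (k * c * k⁻¹) * (m : G)⁻¹ ∈ K := h2.1
  have e : (m : G) * k * c * ((m : G) * k)⁻¹ = (m : G) * (k * c * k⁻¹) * (m : G)⁻¹ := by group
  rw [e]
  exact h3

/-- **Elements of orders 5 and 11 do not commute.** -/
theorem eleven_five (FT : ∀ (K : Type u) [Group K] [Finite K], Odd (Nat.card K) → Group.IsSolvable K) (L : MT 11 G)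
    (hcard : Nat.card G = 51765179004000000) {x₀ : G} (h₀ : TData x₀) {x y : G} (hx : orderOf x = 11)
    (hy : orderOf y = 5) : x * y ≠ y * x := by
  intro hxy
  obtain ⟨X, y', g, hX, hy', hXy', hyw⟩ := exists_elev_three L hcard h₀ Nat.prime_five (by norm_num) (by norm_num) hx hy hxy
  obtain ⟨t, f, K, S, h, hK⟩ := exists_conj_K L h₀
  obtain ⟨m, hm⟩ := hK y' g hy' hyw
  refine (adj_five FT L hcard (by norm_num : Nat.Prime 11) (by norm_num) (c := m * y' * m⁻¹) (x := m * X * m⁻¹)
    (by rw [orderOf_conj'', hy']) (by rw [orderOf_conj'', hX]) (conj_comm' m hXy'.symm)).2.2 t f K S h hm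

end main

end Cfsg.Agent.H582.Ly
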