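import Cfsg.Agent.H582.Ly.KerAct

/-!
# The situation `Sit 3 a b` in the Lyons group: the Sylow 5-subgroups (helper582)
-/

set_option autoImplicit false
set_option linter.unusedSectionVars false
set_option linter.unusedVariables false

namespace Cfsg.Agent.H582.Ly

open Subgroup Equiv Cfsg Cfsg.Agent.TypeM.Two Cfsg.Agent.SporRec.TwoAn Cfsg.Agent.CpAut.Cyc

universe u v

section

variable {G : Type u} [Group G] [Finite G] {x₀ : G} {p : ℕ} {a : MulAut G} {b : G}

/-- `C(a) ∩ K = 1` -/
theorem inf_K (D : Dat G x₀) (S : H516.Sit 3 a b) {t f : G} {K T : Subgroup G} (h : Fv t f K T) {w : G} (hw : w ∈ K)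
    (haw : a w = w) : w = 1 := by
  by_contra hw1
  have hf3 : Fact (Nat.Prime 3) := ⟨Nat.prime_three⟩
  have hf5 : Fact (Nat.Prime 5) := ⟨Nat.prime_five⟩
  have hw5 : w ^ 5 = 1 := h.pow_five w hw
  have hwo : orderOf w = 5 := orderOf_eq_prime hw5 hw1
  have hmem : ∀ z : G, z ∈ zpowers f → z ≠ 1 → f ∈ zpowers z := by
    intro z hz hz1
    have hzo : orderOf z = 5 := by
      apply orderOf_eq_prime _ hz1
      exact h.pow_five z (h.h.F_le hz)
    have h2 : zpowers z = zpowers f := by
      apply Subgroup.eq_of_le_of_card_ge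
      · rwa [zpowers_le]
      · rw [Nat.card_zpowers, h.h.f5, Nat.card_zpowers, hzo]
    rw [h2]
    exact mem_zpowers f
  have hnf : ¬ f ∈ fixedSubgroup a := not_fv S (by norm_num) h
  have hwf : w ∉ zpowers f := fun h1 =>
    hnf ((zpowers_le.2 (show w ∈ fixedSubgroup a from haw)) (hmem w h1 hw1))
  have hfw : f ∈ centralizer ({w} : Set G) := mem_centralizer_singleton_iff.2 (h.h.cent w hw).symm
  have hcore : pCore 3 ↥(centralizer ({w} : Set G)) ≠ ⊥ := fun hO =>
    hnf (S.le_of_inv (cent_ne_top S hw1) (S.map_centralizer haw) hO hfw)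
  set R := (pCore 3 ↥(centralizer ({w} : Set G))).map (centralizer ({w} : Set G)).subtype with hR
  have hRp : IsPGroup 3 R := (Lib.Cores.pCore_isPGroup (G := ↥(centralizer ({w} : Set G))) 3).map _
  have hRw : R ≤ centralizer ({w} : Set G) := map_subtype_le _
  have hRn : ∀ g ∈ centralizer ({w} : Set G), ∀ r ∈ R, g * r * g⁻¹ ∈ R := by
    rintro g hg _ ⟨r, hr, rfl⟩
    exact ⟨_, (Lib.Cores.pCore_normal (G := ↥(centralizer ({w} : Set G))) 3).conj_mem r hr ⟨g, hg⟩, rfl⟩
  have hRbot : R ≠ ⊥ := by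
    intro h4
    apply hcore
    rwa [hR, Subgroup.map_eq_bot_iff_of_injective _ (Subgroup.subtype_injective _)] at h4
  obtain ⟨m, hm⟩ := IsPGroup.iff_card.1 hRp
  have hm7 : m ≤ 7 := by
    by_contra hcon
    have h1 : 3 ^ 8 ∣ Nat.card G := ((pow_dvd_pow 3 (by omega)).trans (dvd_of_eq hm.symm)).trans
      (Subgroup.card_subgroup_dvd_card R)
    rw [D.card] at h1
    norm_num at h1
  set B : Subgroup G := K ⊓ centralizer ({w} : Set G) with hB
  have hBcard : 625 ≤ Nat.card B := by
    have h1 : Nat.card K ≤ 5 * Nat.card B := h.card_le_mul le_rfl hw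
    rw [h.h.card] at h1
    omega
  by_cases hfR : ∀ r ∈ R, r * f = f * r
  · -- `f` centralizes `R`
    have hRK : ∀ r : G, r ∈ R → r ∈ K → r = 1 := by
      intro r hr hrK
      have h1 : r ^ 3 ^ m = 1 := by
        have := pow_card_eq_one' (x := (⟨r, hr⟩ : R))
        rw [hm] at this
        exact congrArg Subtype.val this
      have h2 := Nat.dvd_gcd (orderOf_dvd_of_pow_eq_one h1) (orderOf_dvd_of_pow_eq_one (h.pow_five r hrK))
      have h3 : Nat.gcd (3 ^ m) 5 = 1 := Nat.Coprime.pow_left m (by norm_num)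
      rw [h3, Nat.dvd_one, orderOf_eq_one_iff] at h2
      exact h2
    -- an element of order three
    obtain ⟨r, hr, hr3⟩ : ∃ r ∈ R, orderOf r = 3 := by
      have hm0 : m ≠ 0 := by
        rintro rfl
        rw [pow_zero] at hm
        exact hRbot (Subgroup.eq_bot_of_card_eq _ hm)
      obtain ⟨r, hr⟩ := exists_prime_orderOf_dvd_card' (G := R) 3 (by rw [hm]; exact dvd_pow_self 3 hm0)
      exact ⟨r, r.2, by rw [Subgroup.orderOf_coe, hr]⟩
    have hrf : r * f = f * r := hfR r hr
    have hrK : ∀ k ∈ K, r * k * r⁻¹ ∈ K := h.h.norm r (by rw [hrf, mul_inv_cancel_right]; exact mem_zpowers f)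
    have hBr : B ≤ K ⊓ centralizer ({r} : Set G) := by
      intro y hy
      refine ⟨hy.1, mem_centralizer_singleton_iff.2 ?_⟩
      have h1 : y * r * y⁻¹ * r⁻¹ ∈ R := mul_mem (hRn y hy.2 r hr) (inv_mem hr)
      have h2 : y * r * y⁻¹ * r⁻¹ ∈ K := by
        have e : y * r * y⁻¹ * r⁻¹ = y * (r * y⁻¹ * r⁻¹) := by group
        rw [e]
        exact mul_mem hy.1 (hrK _ (inv_mem hy.1))
      have h3 := hRK _ h1 h2
      rw [mul_inv_eq_one, mul_inv_eq_iff_eq_mul] at h3
      exact h3
    have h1 := card_modEq_of_inv Nat.prime_three hr3 K hrK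
    have h2 : Nat.card B ≤ Nat.card (K ⊓ centralizer ({r} : Set G) : Subgroup G) := Nat.card_mono (Set.toFinite _) hBr
    have h3 : K ⊓ centralizer ({r} : Set G) = K := by
      apply eq_of_lt h.h.card inf_le_left
      refine lt_of_le_of_ne (hBcard.trans h2) ?_
      intro h4
      rw [h.h.card, ← h4] at h1
      revert h1
      decide
    have h4 : r ∈ K := by
      refine h.mem_of_comm hrf fun k hk => ?_
      rw [← h3] at hk
      exact (mem_centralizer_singleton_iff.1 hk.2).symm
    have h5 := hRK r hr h4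
    rw [h5, orderOf_one] at hr3
    norm_num at hr3
  · -- the kernel of the action of `B`
    have hk := card_le_kernel (B := B) (R := R) (fun y hy => h.pow_five y hy.1) hm hm7 (fun y hy => hRn y hy.2)
    set E : Subgroup G := B ⊓ centralizer (R : Set G) with hE
    have hfE : f ∉ E := by
      intro h1
      apply hfR
      intro r hr
      exact (mem_centralizer_iff.1 h1.2) r hr
    have hEK : E ≤ K := inf_le_left.trans inf_le_left
    have hEab : ∀ x ∈ E, ∀ y ∈ E, x * y = y * x := by
      intro x hx y hy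
      by_contra hxy
      have h1 : x * y * x⁻¹ * y⁻¹ ≠ 1 := by
        intro h2
        rw [mul_inv_eq_one, mul_inv_eq_iff_eq_mul] at h2
        exact hxy h2
      have h2 : x * y * x⁻¹ * y⁻¹ ∈ E := mul_mem (mul_mem (mul_mem hx hy) (inv_mem hx)) (inv_mem hy)
      exact hfE ((zpowers_le.2 h2) (hmem _ (h.h.comm_mem (hEK hx) (hEK hy)) h1))
    have hAab : E ⊔ zpowers f ≤ centralizer ((E ⊔ zpowers f : Subgroup G) : Set G) := by
      have c1 : E ≤ centralizer (E : Set G) := fun x hx => mem_centralizer_iff.2 fun y hy => hEab y hy x hx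
      have c2 : zpowers f ≤ centralizer (E : Set G) := by
        rw [zpowers_le, mem_centralizer_iff]
        intro y hy
        exact h.h.cent y (hEK hy)
      have c3 : zpowers f ≤ centralizer ((zpowers f : Subgroup G) : Set G) := by
        rintro _ ⟨i, rfl⟩
        rw [mem_centralizer_iff]
        rintro _ ⟨j, rfl⟩
        exact ((Commute.refl f).zpow_zpow j i).eq
      rw [Subgroup.le_centralizer_iff]
      refine sup_le ?_ ?_
      · rw [Subgroup.le_centralizer_iff]
        exact sup_le c1 c2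
      · rw [Subgroup.le_centralizer_iff]
        refine sup_le ?_ c3
        rw [Subgroup.le_centralizer_iff]
        exact c2
    have h1 := h.card_abelian_K (A := E ⊔ zpowers f) (sup_le hEK h.h.F_le) fun x hx y hy =>
      (mem_centralizer_iff.1 (hAab hy)) x hx
    have h2 : E = E ⊔ zpowers f := by
      apply Subgroup.eq_of_le_of_card_ge le_sup_left
      omega
    apply hfE
    rw [h2]
    exact (le_sup_right : zpowers f ≤ E ⊔ zpowers f) (mem_zpowers f)

/-- `25` does not divide `|C(a)|` -/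
theorem not_dvd_25 (D : Dat G x₀) (S : H516.Sit 3 a b) : ¬ 5 ^ 2 ∣ Nat.card (fixedSubgroup a) := by
  intro h25
  have hf5 : Fact (Nat.Prime 5) := ⟨Nat.prime_five⟩
  obtain ⟨P₀, hP₀⟩ := Sylow.exists_subgroup_card_pow_prime (G := fixedSubgroup a) 5 (n := 2) h25
  have hA5 : IsPGroup 5 (P₀.map (fixedSubgroup a).subtype) := (IsPGroup.of_card hP₀).map _
  obtain ⟨f, K, T, h⟩ := exists_fv D.L
  obtain ⟨t', f', K', T', h', P, hAP, hKP, hPf, hPc⟩ := h.exists_sylow D.card hA5
  have h1 := h'.card_le_inf hA5 (hAP.trans hPf)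
  rw [card_map_of_injective (subtype_injective _), hP₀] at h1
  have h2 : (P₀.map (fixedSubgroup a).subtype) ⊓ K' = ⊥ := by
    rw [eq_bot_iff]
    rintro w ⟨hw1, hw2⟩
    rw [mem_bot]
    exact inf_K D S h' hw2 ((map_subtype_le P₀) hw1)
  rw [h2, Subgroup.card_bot] at h1
  norm_num at h1

end

end Cfsg.Agent.H582.Ly
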