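import Cfsg.Agent.H582.Ly.Eleven
import Cfsg.Agent.H516.Tools
import Cfsg.Agent.TypeM.FactsAut

/-!
# The situation to be contradicted in the Lyons group: general facts (helper582)

* `Dat G x₀` : what is used of the Lyons group;
* `Dat.core_ne`, `Dat.exists_p` : a fixed element with a centralizer of even order commutes with elements of order `p`;
* `Dat.not_fv` : no 5-central element is fixed if `p ≠ 5`;
* `Dat.not_dvd_three` : `3` does not divide `|C(a)|`, `p ≥ 5`.
-/

set_option autoImplicit false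
set_option linter.unusedSectionVars false
set_option linter.unusedVariables false

namespace Cfsg.Agent.H582.Ly

open Subgroup Equiv Cfsg Cfsg.Agent.TypeM.Two Cfsg.Agent.SporRec.TwoAn Cfsg.Agent.CpAut.Cyc

universe u v

/-- what is used of the Lyons group -/
structure Dat (G : Type u) [Group G] [Finite G] (x₀ : G) where
  L : MT 11 G
  FT : ∀ (K : Type u) [Group K] [Finite K], Odd (Nat.card K) → Group.IsSolvable K
  card : Nat.card G = 51765179004000000
  three : TData x₀
  na : ∀ x y : G, orderOf x = 37 → orderOf y = 67 → x * y ≠ y * x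
  inner : ∀ a : MulAut G, ∃ g : G, MulAut.conj g = a

namespace Dat

variable {G : Type u} [Group G] [Finite G] {x₀ : G} (D : Dat G x₀)

include D

theorem card_t : Nat.card (centralizer ({D.L.t} : Set G)) = 39916800 := by
  rw [TypeM.FactsAut.card_centralizer D.L (by norm_num)]
  rfl

/-- the centralizers of the elements of orders 7 and 11 have even order -/
theorem two_dvd {x : G} {q : ℕ} (hq : q.Prime) (hq7 : 7 ≤ q) (hqt : q ∣ 39916800) (hx : orderOf x = q) :
    2 ∣ Nat.card (centralizer ({x} : Set G)) := by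
  have hf : Fact q.Prime := ⟨hq⟩
  obtain ⟨X, hX⟩ := exists_prime_orderOf_dvd_card' (G := centralizer ({D.L.t} : Set G)) q (by rw [D.card_t]; exact hqt)
  obtain ⟨w, g, hw, hxw, -⟩ := exists_comm hq (sq_not_dvd D.card hq hq7) hx (y := (X : G))
    (by rw [Subgroup.orderOf_coe, hX]) D.L.orderOf_t (mem_centralizer_singleton_iff.1 X.2)
  rw [← hw, ← Subgroup.orderOf_mk w (mem_centralizer_singleton_iff.2 hxw.symm)]
  exact orderOf_dvd_natCard _

end Dat

section sit

variable {G : Type u} [Group G] [Finite G] {x₀ : G} {p : ℕ} {a : MulAut G} {b : G}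

theorem cent_ne_top (S : H516.Sit p a b) {x : G} (hx1 : x ≠ 1) : centralizer ({x} : Set G) ≠ ⊤ := by
  intro h1
  apply hx1
  have h2 : x ∈ Subgroup.center G := by
    rw [mem_center_iff]
    intro g
    have h3 : g ∈ centralizer ({x} : Set G) := by rw [h1]; exact mem_top g
    exact mem_centralizer_singleton_iff.1 h3
  rwa [S.good.center, mem_bot] at h2

theorem core_ne (S : H516.Sit p a b) {x : G} (hx : a x = x) (hx1 : x ≠ 1)
    (h2 : 2 ∣ Nat.card (centralizer ({x} : Set G))) : pCore p ↥(centralizer ({x} : Set G)) ≠ ⊥ := fun h =>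
  (Nat.not_even_iff_odd.2 (S.odd_of_inv (cent_ne_top S hx1) (S.map_centralizer hx) h)) (even_iff_two_dvd.2 h2)

theorem exists_p (hp : p.Prime) {x : G} (h : pCore p ↥(centralizer ({x} : Set G)) ≠ ⊥) :
    ∃ y : G, orderOf y = p ∧ x * y = y * x := by
  have hf : Fact p.Prime := ⟨hp⟩
  have h1 := Lib.Cores.pCore_isPGroup (G := ↥(centralizer ({x} : Set G))) p
  obtain ⟨n, hn⟩ := IsPGroup.iff_card.1 h1
  have hn0 : n ≠ 0 := by
    rintro rfl
    rw [pow_zero] at hn
    exact h (Subgroup.eq_bot_of_card_eq _ hn)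
  obtain ⟨y, hy⟩ := exists_prime_orderOf_dvd_card' (G := pCore p ↥(centralizer ({x} : Set G))) p (by
    rw [hn]
    exact dvd_pow_self p hn0)
  exact ⟨((y : ↥(centralizer ({x} : Set G))) : G), by rw [Subgroup.orderOf_coe, Subgroup.orderOf_coe, hy],
    (mem_centralizer_singleton_iff.1 (y : ↥(centralizer ({x} : Set G))).2).symm⟩

/-- a fixed element with a centralizer of even order commutes with an element of order `p` -/
theorem exists_adj (S : H516.Sit p a b) {x : G} (hx : a x = x) (hx1 : x ≠ 1)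
    (h2 : 2 ∣ Nat.card (centralizer ({x} : Set G))) : ∃ y : G, orderOf y = p ∧ x * y = y * x :=
  exists_p S.prime (core_ne S hx hx1 h2)

/-- no 5-central element is fixed -/
theorem not_fv (S : H516.Sit p a b) (hp5 : p ≠ 5) {t f : G} {K T : Subgroup G} (h : Fv t f K T) : a f ≠ f := by
  intro hf
  refine core_ne S hf h.h.f_ne ?_ (h.pCore_eq_bot S.prime hp5)
  exact even_iff_two_dvd.1 h.even_cent

theorem p_dvd (S : H516.Sit p a b) : p ∣ Nat.card G := by
  by_contra h
  have h1 := S.card_le (Q := ⊤) (by rwa [Subgroup.card_top])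
  rw [Subgroup.card_top] at h1
  have h2 : H516.Sit p a b := S
  have h3 : fixedSubgroup a = ⊤ := by
    apply Subgroup.eq_of_le_of_card_ge le_top
    rwa [Subgroup.card_top]
  have h4 := S.odd
  rw [h3, Subgroup.card_top] at h4
  exact (Nat.not_even_iff_odd.2 h4) S.good.even

theorem ne_one_of_order {x : G} {q : ℕ} (hq : q.Prime) (hx : orderOf x = q) : x ≠ 1 := by
  rintro rfl
  rw [orderOf_one] at hx
  exact hq.one_lt.ne hx

/-- an element of prime order of the fixed subgroup -/
theorem exists_fixed {q : ℕ} (hq : q.Prime) (h : q ∣ Nat.card (fixedSubgroup a)) : ∃ x : G, orderOf x = q ∧ a x = x := by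
  have hf : Fact q.Prime := ⟨hq⟩
  obtain ⟨x, hx⟩ := exists_prime_orderOf_dvd_card' (G := fixedSubgroup a) q h
  exact ⟨x, by rw [Subgroup.orderOf_coe, hx], x.2⟩

/-- 7 divides `|C(a)|` only if `p = 7` or `p` is small -/
theorem not_dvd_seven (D : Dat G x₀) (S : H516.Sit p a b) (hp11 : 11 ≤ p) : ¬ 7 ∣ Nat.card (fixedSubgroup a) := by
  intro h
  have h7 : Nat.Prime 7 := by norm_num
  obtain ⟨x, hx, hax⟩ := exists_fixed h7 h
  obtain ⟨y, hy, hxy⟩ := exists_adj S hax (ne_one_of_order h7 hx) (D.two_dvd h7 le_rfl (by norm_num) hx)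
  exact seven D.L D.card S.prime hp11 hx hy hxy

theorem not_dvd_seven_five (D : Dat G x₀) (S : H516.Sit 5 a b) : ¬ 7 ∣ Nat.card (fixedSubgroup a) := by
  intro h
  have h7 : Nat.Prime 7 := by norm_num
  obtain ⟨x, hx, hax⟩ := exists_fixed h7 h
  obtain ⟨y, hy, hxy⟩ := exists_adj S hax (ne_one_of_order h7 hx) (D.two_dvd h7 le_rfl (by norm_num) hx)
  have h1 := (adj_five D.FT D.L D.card h7 le_rfl hy hx hxy.symm).1
  norm_num at h1

theorem not_dvd_eleven (D : Dat G x₀) (S : H516.Sit p a b) (hp5 : 5 ≤ p) (hp11 : p ≠ 11) :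
    ¬ 11 ∣ Nat.card (fixedSubgroup a) := by
  intro h
  have h11 : Nat.Prime 11 := by norm_num
  obtain ⟨x, hx, hax⟩ := exists_fixed h11 h
  obtain ⟨y, hy, hxy⟩ := exists_adj S hax (ne_one_of_order h11 hx) (D.two_dvd h11 (by norm_num) (by norm_num) hx)
  by_cases h13 : 13 ≤ p
  · exact eleven D.L D.card D.three S.prime h13 hx hy hxy
  · have hp := S.prime
    interval_cases p
    · exact eleven_five D.FT D.L D.card D.three hx hy hxy
    · revert hp; norm_num
    · exact seven D.L D.card h11 le_rfl hy hx hxy.symm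
    · revert hp; norm_num
    · revert hp; norm_num
    · revert hp; norm_num
    · exact hp11 rfl
    · revert hp; norm_num

end sit

end Cfsg.Agent.H582.Ly
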